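import Groth.Agent.RatType.Socle
import Groth.Agent.GrLib8.Samuel.InfResidue

/-!
# The socle of a surface with the Hilbert function of a rational singularity
-/

set_option autoImplicit false
set_option linter.style.haveILetI false
set_option linter.unusedSectionVars false
set_option maxHeartbeats 800000

universe u

open IsLocalRing
open scoped Pointwise

namespace Groth.Agent.RatType

open Groth.Agent

variable {R : Type u} [CommRing R] [IsLocalRing R] [IsDomain R]

/-- Splitting a quotient along a multiplication. -/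
theorem length_step (Q Q' Q'' : Ideal R) (c : R) (h₁ : ∀ z, c * z ∈ Q ↔ z ∈ Q') (h₂ : Q ⊔ Ideal.span {c} = Q'') :
    Module.length R (R ⧸ Q) = Module.length R (R ⧸ Q') + Module.length R (R ⧸ Q'') := by
  rw [GrLib8.Samuel.length_colon_step Q c,
    (Submodule.quotEquivOfEq (Submodule.comap (LinearMap.lsmul R R c) Q) Q' (Submodule.ext h₁)).length_eq,
    (Submodule.quotEquivOfEq (Q ⊔ c • (⊤ : Submodule R R)) Q'' ?_).length_eq]
  rw [← h₂]
  refine congrArg (Q ⊔ ·) (Submodule.ext fun z => ?_)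
  rw [Submodule.mem_smul_pointwise_iff_exists]
  exact ⟨fun ⟨w, _, hw⟩ => Ideal.mem_span_singleton'.2 ⟨w, (mul_comm w c).trans hw⟩, fun hz => by
    obtain ⟨w, rfl⟩ := Ideal.mem_span_singleton'.1 hz
    exact ⟨w, trivial, mul_comm c w⟩⟩

variable {x y : R}

/-- Powers of a regular pair stay regular. -/
theorem RegPair.pow_next (h : RegPair x y) : ∀ (n : ℕ) (c : R), y ^ n * c ∈ Ideal.span {x} → c ∈ Ideal.span {x}
  | 0, c, hc => by simpa using hc
  | n + 1, c, hc => h.next _ (h.pow_next n (y * c) (by rwa [← mul_assoc, ← pow_succ]))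

theorem length_pair_pow (h : RegPair x y) : ∀ n : ℕ, Module.length R (R ⧸ (Ideal.span {x} ⊔ Ideal.span {y ^ n})) =
    n * Module.length R (R ⧸ (Ideal.span {x} ⊔ Ideal.span {y}))
  | 0 => by
    rw [Nat.cast_zero, zero_mul, Module.length_eq_zero_iff, Submodule.Quotient.subsingleton_iff, eq_top_iff]
    intro z _
    exact Ideal.mem_sup_right (Ideal.mem_span_singleton'.2 ⟨z, by simp⟩)
  | n + 1 => by
    have h₁ : ∀ z, y * z ∈ Ideal.span {x} ⊔ Ideal.span {y ^ (n + 1)} ↔ z ∈ Ideal.span {x} ⊔ Ideal.span {y ^ n} := by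
      refine fun z => ⟨fun hz => ?_, fun hz => ?_⟩
      · obtain ⟨a, ha, b, hb, he⟩ := Submodule.mem_sup.1 hz
        obtain ⟨t, rfl⟩ := Ideal.mem_span_singleton'.1 hb
        have h1 : z - t * y ^ n ∈ Ideal.span {x} := h.next _ (by
          rw [show y * (z - t * y ^ n) = a by linear_combination -he]
          exact ha)
        simpa using add_mem (Ideal.mem_sup_left h1)
          (Ideal.mem_sup_right (Ideal.mem_span_singleton'.2 ⟨t, rfl⟩) : t * y ^ n ∈ Ideal.span {x} ⊔ Ideal.span {y ^ n})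
      · obtain ⟨a, ha, b, hb, rfl⟩ := Submodule.mem_sup.1 hz
        obtain ⟨t, rfl⟩ := Ideal.mem_span_singleton'.1 hb
        rw [mul_add]
        exact add_mem (Ideal.mem_sup_left (Ideal.mul_mem_left _ _ ha))
          (Ideal.mem_sup_right (Ideal.mem_span_singleton'.2 ⟨t, by ring⟩))
    have h₂ : (Ideal.span {x} ⊔ Ideal.span {y ^ (n + 1)}) ⊔ Ideal.span {y} = Ideal.span {x} ⊔ Ideal.span {y} := by
      rw [sup_assoc, sup_eq_right.2 ((Ideal.span_singleton_le_iff_mem _).2
        (Ideal.mem_span_singleton'.2 ⟨y ^ n, by ring⟩) : Ideal.span {y ^ (n + 1)} ≤ Ideal.span {y})]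
    rw [length_step _ _ _ y h₁ h₂, length_pair_pow h n, Nat.cast_succ, add_mul, one_mul]

theorem two_mul_length_pair (h : RegPair x y) : ∀ n : ℕ,
    2 * Module.length R (R ⧸ (Ideal.span {x} ⊔ Ideal.span {y}) ^ n) =
      ((n * (n + 1) : ℕ) : ℕ∞) * Module.length R (R ⧸ (Ideal.span {x} ⊔ Ideal.span {y}))
  | 0 => by
    rw [pow_zero, Ideal.one_eq_top, Module.length_eq_zero]
    simp
  | n + 1 => by
    set a := Ideal.span {x} ⊔ Ideal.span {y} with ha
    have hrec : a ^ (n + 1) = Ideal.span {x} * a ^ n ⊔ Ideal.span {y ^ (n + 1)} := by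
      refine le_antisymm ?_ (sup_le ?_ ((Ideal.span_singleton_le_iff_mem _).2
        (Ideal.pow_mem_pow (Ideal.mem_sup_right (Ideal.mem_span_singleton_self y)) _)))
      · clear h
        induction n with
        | zero => simp [ha]
        | succ k ih =>
          refine (le_of_eq (pow_succ' a (k + 1))).trans ?_
          rw [show a * a ^ (k + 1) = Ideal.span {x} * a ^ (k + 1) ⊔ Ideal.span {y} * a ^ (k + 1) from Ideal.sup_mul _ _ _]
          refine sup_le le_sup_left ((Ideal.mul_mono_right ih).trans ?_)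
          rw [Ideal.mul_sup, ← mul_assoc, mul_comm (Ideal.span {y}) (Ideal.span {x}), mul_assoc,
            Ideal.span_singleton_mul_span_singleton]
          refine sup_le_sup (Ideal.mul_mono_right ?_) (le_of_eq ?_)
          · rw [pow_succ']
            exact Ideal.mul_mono_left le_sup_right
          · rw [← pow_succ']
      · rw [pow_succ']
        exact Ideal.mul_mono_left le_sup_left
    have h₁ : ∀ z, x * z ∈ a ^ (n + 1) ↔ z ∈ a ^ n := by
      refine fun z => ⟨fun hz => ?_, fun hz => ?_⟩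
      · rw [hrec] at hz
        obtain ⟨u, hu, b, hb, he⟩ := Submodule.mem_sup.1 hz
        obtain ⟨w, hw, rfl⟩ := Ideal.mem_span_singleton_mul.1 hu
        obtain ⟨c, rfl⟩ := Ideal.mem_span_singleton'.1 hb
        obtain ⟨d, rfl⟩ := Ideal.mem_span_singleton'.1 (h.pow_next (n + 1) c
          (Ideal.mem_span_singleton'.2 ⟨z - w, by linear_combination -he⟩))
        rw [show z = w + d * y * y ^ n from mul_left_cancel₀ h.ne (by linear_combination -he)]
        exact add_mem hw (Ideal.mul_mem_left _ _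
          (Ideal.pow_mem_pow (Ideal.mem_sup_right (Ideal.mem_span_singleton_self y)) n))
      · rw [pow_succ']
        exact Ideal.mul_mem_mul (Ideal.mem_sup_left (Ideal.mem_span_singleton_self x)) hz
    have h₂ : a ^ (n + 1) ⊔ Ideal.span {x} = Ideal.span {x} ⊔ Ideal.span {y ^ (n + 1)} := by
      rw [hrec, sup_right_comm, sup_eq_right.2 (Ideal.mul_le_left : Ideal.span {x} * a ^ n ≤ Ideal.span {x})]
    rw [length_step _ _ _ x h₁ h₂, mul_add, two_mul_length_pair h n, length_pair_pow h, ← mul_assoc, ← add_mul, ← ha]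
    congr 1
    push_cast
    ring

variable [IsNoetherianRing R]

theorem length_quot_ne_top_of_pow_le {I : Ideal R} {n : ℕ} (h : maximalIdeal R ^ n ≤ I) :
    Module.length R (R ⧸ I) ≠ ⊤ :=
  ne_top_of_le_ne_top (HSLib.length_quot_ne_top (M := R) (t := n)
    (GrLib8.Samuel.maxSupp_of_pow_le (I := maximalIdeal R) (n := 1) (pow_one _).le R) le_rfl)
    (Module.length_le_of_surjective (Submodule.factor (show maximalIdeal R ^ n • (⊤ : Submodule R R) ≤ I by
      rw [smul_eq_mul, Ideal.mul_top]; exact h)) (Submodule.factor_surjective _))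

theorem length_sup_add_two {I M₂ : Ideal R} (hI : I = Ideal.span {x} ⊔ Ideal.span {y})
    (hM : ∀ m ∈ maximalIdeal R, m * x ∈ M₂ ∧ m * y ∈ M₂) :
    Module.length R (R ⧸ M₂) ≤ 2 + Module.length R (R ⧸ (I ⊔ M₂)) := by
  rw [HSLib.length_quot_eq_add (le_sup_right : M₂ ≤ I ⊔ M₂)]
  refine add_le_add_left ?_ _
  let P := (I ⊔ M₂ : Ideal R)
  let v : (Fin 2 → R) →ₗ[R] P ⧸ Submodule.comap P.subtype M₂ :=
    (Fintype.linearCombination R ![(⟨x, Ideal.mem_sup_left (hI ▸ Ideal.mem_sup_left (Ideal.mem_span_singleton_self x))⟩ : P),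
      ⟨y, Ideal.mem_sup_left (hI ▸ Ideal.mem_sup_right (Ideal.mem_span_singleton_self y))⟩]) |>
      ((Submodule.comap P.subtype M₂).mkQ ∘ₗ ·)
  let q : (Fin 2 → R) →ₗ[R] (Fin 2 → ResidueField R) :=
    LinearMap.pi fun i => Algebra.linearMap R (ResidueField R) ∘ₗ LinearMap.proj i
  have hv : Function.Surjective v := fun z => by
    obtain ⟨⟨z, hz⟩, rfl⟩ := Submodule.mkQ_surjective _ z
    obtain ⟨a, ha, b, hb, rfl⟩ := Submodule.mem_sup.1 hz
    rw [hI, Submodule.mem_sup] at ha
    obtain ⟨_, h1, _, h2, rfl⟩ := ha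
    obtain ⟨c, rfl⟩ := Ideal.mem_span_singleton'.1 h1
    obtain ⟨d, rfl⟩ := Ideal.mem_span_singleton'.1 h2
    refine ⟨![c, d], (Submodule.Quotient.eq _).2 ?_⟩
    show ((Fintype.linearCombination R _ ![c, d] : P) : R) - (c * x + d * y + b) ∈ M₂
    simpa [Fintype.linearCombination_apply, Fin.sum_univ_two, ← add_assoc] using neg_mem hb
  have hker : LinearMap.ker q ≤ LinearMap.ker v := fun c hc => by
    have hc' : ∀ i, c i ∈ maximalIdeal R := fun i => (residue_eq_zero_iff _).1 (congrFun hc i)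
    refine (Submodule.Quotient.mk_eq_zero _).2 ?_
    show ((Fintype.linearCombination R _ c : P) : R) ∈ M₂
    simpa [Fintype.linearCombination_apply, Fin.sum_univ_two] using add_mem (hM _ (hc' 0)).1 (hM _ (hc' 1)).2
  have hlift : Function.Surjective (Submodule.liftQ (LinearMap.ker q) v hker) := fun z => by
    obtain ⟨c, rfl⟩ := hv z
    exact ⟨Submodule.Quotient.mk c, rfl⟩
  refine (Module.length_le_of_surjective _ hlift).trans ?_
  rw [q.quotKerEquivRange.length_eq]
  refine (Module.length_le_of_injective (LinearMap.range q).subtype Subtype.val_injective).trans ?_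
  rw [Module.length_pi, HSLib.length_residueField, mul_one, ENat.card_eq_coe_fintype_card, Fintype.card_fin]
  rfl

/-- With an infinite residue field: the socle of a pair is as big as the Hilbert function predicts. -/
theorem exists_pair_socle (hinf : Infinite (ResidueField R)) (hdim : ringKrullDim R = 2) {a b : R} (hab : RegPair a b)
    {μ : ℕ} (hμ : 2 ≤ μ) (hH : ∀ n : ℕ, 2 * Module.length R (R ⧸ maximalIdeal R ^ n) + ((μ * n : ℕ) : ℕ∞) =
      ((μ * n * n + 2 * n : ℕ) : ℕ∞)) :
    Module.length R (socle (Ideal.span {a} ⊔ Ideal.span {b})) + 1 = μ := by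
  classical
  set m := maximalIdeal R with hmdef
  have hmne : m ≠ ⊤ := (maximalIdeal.isMaximal R).ne_top
  obtain ⟨c, -, hc, -⟩ := IdealRedLib.exists_isMinimalReduction (IdealRedLib.refl m)
  obtain ⟨S, hcard, hS⟩ := (IsNoetherian.noetherian c).exists_span_finset_card_eq_spanFinrank
  let w : Fin c.spanFinrank → R := fun j => (S.equivFinOfCardEq hcard).symm j
  have hw : Ideal.span (Set.range w) = c := by
    have hwS : Set.range w = (S : Set R) := by
      ext x
      exact ⟨fun ⟨j, hj⟩ => hj ▸ ((S.equivFinOfCardEq hcard).symm j).2,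
        fun hx => ⟨S.equivFinOfCardEq hcard ⟨x, hx⟩, by simp [w]⟩⟩
    rw [hwS]; exact hS
  obtain ⟨hcm, k, hk⟩ := hc.1
  have hwm : ∀ i, w i ∈ m := fun i => hcm (hw ▸ Ideal.subset_span ⟨i, rfl⟩)
  have hle2 : c.spanFinrank ≤ 2 := GrLib8.Samuel.card_le_dim_of_indep (r := 2) hdim.le w hwm
    (IdealRedLib.indep_of_isMinimalReduction hinf hmne hc hw rfl)
  have hp : ∀ e ∈ m, ¬ m ^ (k + 1) ≤ Ideal.span {e} := fun e hem hle => by
    have he : Ideal.span {e} ≠ ⊤ := fun t => (mem_maximalIdeal e).1 hem (Ideal.span_singleton_eq_top.1 t)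
    have hmin : m ∈ (Ideal.span {e}).minimalPrimes :=
      ⟨⟨(maximalIdeal.isMaximal R).isPrime, le_maximalIdeal he⟩, fun P hP hPm z hz =>
        hP.1.mem_of_pow_mem (k + 1) (hP.2 (hle (Ideal.pow_mem_pow hz _)))⟩
    have h1 := Ideal.height_le_one_of_isPrincipal_of_mem_minimalPrimes (Ideal.span {e}) m hmin
    have h2 := IsLocalRing.maximalIdeal_height_eq_ringKrullDim (R := R)
    rw [hdim] at h2
    exact absurd ((WithBot.coe_eq_coe.1 (h2.trans (by rfl)) : m.height = 2) ▸ h1) (by decide)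
  have hpow : m ^ (k + 1) ≤ c := hk ▸ Ideal.mul_le_left
  obtain ⟨x, y, hxm, hym, hxy⟩ : ∃ x y : R, x ∈ m ∧ y ∈ m ∧ c = Ideal.span {x} ⊔ Ideal.span {y} := by
    let x := if h : 0 < c.spanFinrank then w ⟨0, h⟩ else 0
    let y := if h : 1 < c.spanFinrank then w ⟨1, h⟩ else 0
    refine ⟨x, y, ?_, ?_, le_antisymm ?_ (sup_le ?_ ?_)⟩
    · simp only [x]; split <;> simp [hwm]
    · simp only [y]; split <;> simp [hwm]
    · rw [← hw, Ideal.span_le]
      rintro _ ⟨⟨i, hi⟩, rfl⟩
      have : i = 0 ∨ i = 1 := by omega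
      rcases this with rfl | rfl
      · exact Ideal.mem_sup_left (Ideal.mem_span_singleton'.2 ⟨1, by simp [x, hi]⟩)
      · exact Ideal.mem_sup_right (Ideal.mem_span_singleton'.2 ⟨1, by simp [y, hi]⟩)
    · rw [Ideal.span_singleton_le_iff_mem, ← hw]
      simp only [x]; split
      · exact Ideal.subset_span ⟨_, rfl⟩
      · exact zero_mem _
    · rw [Ideal.span_singleton_le_iff_mem, ← hw]
      simp only [y]; split
      · exact Ideal.subset_span ⟨_, rfl⟩
      · exact zero_mem _
  have hx0 : x ≠ 0 := fun h => hp y hym (by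
    simpa [hxy, h] using hpow)
  have hpair : RegPair x y := ⟨hx0, hxm, hym, fun z => next_of_avoid fun P hP hyP => by
    have hxP : x ∈ P := IsAssociatedPrime.annihilator_le hP (Submodule.mem_annihilator.2 fun z _ => by
      obtain ⟨z, rfl⟩ := Submodule.mkQ_surjective _ z
      exact (Submodule.Quotient.mk_eq_zero _).2 (Ideal.mem_span_singleton'.2 ⟨z, mul_comm z x⟩))
    refine hab.not_mem hx0 ?_
    have hcP : c ≤ P := hxy ▸ sup_le ((Ideal.span_singleton_le_iff_mem _).2 hxP)
      ((Ideal.span_singleton_le_iff_mem _).2 hyP)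
    exact (maximalIdeal.isMaximal R).eq_of_le hP.isPrime.ne_top (hP.isPrime.le_of_pow_le (hpow.trans hcP)) ▸ hP⟩
  have h2c : ∀ n : ℕ, 2 * Module.length R (R ⧸ c ^ n) = ((n * (n + 1) : ℕ) : ℕ∞) * Module.length R (R ⧸ c) := by
    rw [hxy]
    exact two_mul_length_pair hpair
  have hfc := length_quot_ne_top_of_pow_le hpow
  obtain ⟨ℓ, hℓ⟩ := ENat.ne_top_iff_exists.1 hfc
  have hL : ∀ n, ∃ L : ℕ, Module.length R (R ⧸ m ^ n) = (L : ℕ∞) ∧ 2 * L + μ * n = μ * n * n + 2 * n := fun n => by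
    obtain ⟨L, hL⟩ := ENat.ne_top_iff_exists.1 (length_quot_ne_top_of_pow_le (le_refl (m ^ n)))
    have h := hH n
    rw [← hL] at h
    exact ⟨L, hL.symm, by exact_mod_cast h⟩
  have hle : ∀ n : ℕ, μ * n * n + 2 * n ≤ n * (n + 1) * ℓ + μ * n := fun n => by
    obtain ⟨L, hL1, hL2⟩ := hL n
    have h := mul_le_mul' (le_refl (2 : ℕ∞)) (Module.length_le_of_surjective
      (Submodule.factor (Ideal.pow_right_mono hcm n)) (Submodule.factor_surjective _))
    rw [h2c, hL1, ← hℓ] at h
    have h' : 2 * L ≤ n * (n + 1) * ℓ := by exact_mod_cast h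
    omega
  have hge : ∀ n : ℕ, n * (n + 1) * ℓ + μ * (n + k) ≤ μ * (n + k) * (n + k) + 2 * (n + k) := fun n => by
    obtain ⟨L, hL1, hL2⟩ := hL (n + k)
    have hsub : m ^ (n + k) ≤ c ^ n := by
      rw [← IdealRedLib.pow_mul_pow hk n]; exact Ideal.mul_le_left
    have h := mul_le_mul' (le_refl (2 : ℕ∞)) (Module.length_le_of_surjective
      (Submodule.factor hsub) (Submodule.factor_surjective _))
    rw [h2c, hL1, ← hℓ] at h
    have h' : n * (n + 1) * ℓ ≤ 2 * L := by exact_mod_cast h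
    omega
  have hℓμ : ℓ = μ := by
    rcases lt_trichotomy ℓ μ with h | h | h
    · have h1 := hle (2 * μ)
      have h2 := Nat.mul_le_mul_left (2 * μ * (2 * μ + 1)) (show ℓ + 1 ≤ μ from h)
      nlinarith
    · exact h
    · obtain ⟨N, hN⟩ : ∃ N, N = 2 * μ * k + (μ * k * k + 2 * k) + 3 := ⟨_, rfl⟩
      have h1 := hge N
      have h2 : N * (N + 1) * (μ + 1) ≤ N * (N + 1) * ℓ := Nat.mul_le_mul_left _ h
      have h3 : N * N = 2 * μ * k * N + (μ * k * k + 2 * k) * N + 3 * N := by
        nth_rewrite 1 [hN]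
        ring
      have h4 : μ * k * k + 2 * k ≤ (μ * k * k + 2 * k) * N := Nat.le_mul_of_pos_right _ (by omega)
      have h5 : 0 < N := by omega
      ring_nf at h1 h2 h3 h4
      omega
  have hm2 : m ^ 2 ≤ c := by
    obtain ⟨L, hL1, hL2⟩ := hL 2
    have hs := (length_sup_add_two hxy (M₂ := m ^ 2) fun z hz =>
      ⟨pow_two m ▸ Ideal.mul_mem_mul hz hxm, pow_two m ▸ Ideal.mul_mem_mul hz hym⟩)
    have hq := HSLib.length_quot_eq_add (le_sup_left : c ≤ c ⊔ m ^ 2)
    obtain ⟨T, hT⟩ := ENat.ne_top_iff_exists.1 (length_quot_ne_top_of_pow_le (le_sup_right : m ^ 2 ≤ c ⊔ m ^ 2))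
    rw [hL1, ← hT] at hs
    rw [← hℓ, ← hT] at hq
    have hne : HSLib.qlen (c ⊔ m ^ 2) c ≠ ⊤ := fun e => by simp [e] at hq
    obtain ⟨Z, hZ⟩ := ENat.ne_top_iff_exists.1 hne
    rw [← hZ] at hq
    have hs' : L ≤ 2 + T := by exact_mod_cast hs
    have hq' : ℓ = Z + T := by exact_mod_cast hq
    have hZ0 : HSLib.qlen (c ⊔ m ^ 2) c = 0 := by
      rw [← hZ, show Z = 0 by omega]; rfl
    rw [HSLib.qlen, Module.length_eq_zero_iff, Submodule.Quotient.subsingleton_iff] at hZ0
    exact fun z hz => (hZ0.ge (Submodule.mem_top (x := (⟨z, Ideal.mem_sup_right hz⟩ : ↥(c ⊔ m ^ 2)))) : _)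
  have hcne : c ≠ m := fun e => by
    have h1 : Module.length R (R ⧸ c) = 1 := by rw [e]; exact HSLib.length_residueField
    rw [← hℓ] at h1
    have : ℓ = 1 := by exact_mod_cast h1
    omega
  have hsat : sat c = m := by
    refine le_antisymm (fun z hz => ?_) fun z hz => mem_sat.2 fun t ht => hm2 (pow_two m ▸ Ideal.mul_mem_mul hz ht)
    by_contra hzm
    obtain ⟨u, hu⟩ := (notMem_maximalIdeal.1 hzm)
    refine hcne (le_antisymm hcm fun t ht => ?_)
    have := mem_sat.1 hz t ht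
    rwa [← hu, Ideal.unit_mul_mem_iff_mem _ u.isUnit] at this
  rw [length_socle_eq hab hpair, ← hxy]
  have h := length_quot_eq c
  rw [hsat, show Module.length R (R ⧸ m) = 1 from HSLib.length_residueField, ← hℓ, hℓμ] at h
  exact h.symm

end Groth.Agent.RatType
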