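import Groth.Agent.RatType.Ext
import Groth.Agent.RatType.Hilbert
import Groth.Agent.BrnchLib.Colon
import Groth.Agent.RatCompl.Alg
import Groth.Agent.RatSing.Hilbert

/-!
# The type of a rational surface singularity
-/

set_option autoImplicit false
set_option linter.style.haveILetI false
set_option linter.unusedSectionVars false
set_option maxHeartbeats 800000

universe u

open IsLocalRing
open scoped TensorProduct

attribute [local instance] HasDerivedCategory.standard

noncomputable section

namespace Groth.Agent.RatType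

open Groth.Agent

variable {A : Type u} [CommRing A] [IsLocalRing A] [IsNoetherianRing A] [IsDomain A]

/-- The socle over a local extension with infinite residue field. -/
theorem length_socle_of_hilbert (hdim : ringKrullDim A = 2) {f g : A} (h : RegPair f g) {μ : ℕ} (hμ : 2 ≤ μ)
    (hH : ∀ n : ℕ, 2 * Module.length A (A ⧸ maximalIdeal A ^ n) + ((μ * n : ℕ) : ℕ∞) =
      ((μ * n * n + 2 * n : ℕ) : ℕ∞)) :
    Module.length A (socle (Ideal.span {f} ⊔ Ideal.span {g})) + 1 = μ := by
  classical
  let P : Ideal (Polynomial A) := (maximalIdeal A).map Polynomial.C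
  haveI : P.IsPrime := Ideal.isPrime_map_C_of_isPrime
  let B := Localization.AtPrime P
  haveI : IsDomain B := IsLocalization.isDomain_localization P.primeCompl_le_nonZeroDivisors
  haveI : IsNoetherianRing B := IsLocalization.isNoetherianRing P.primeCompl _ inferInstance
  haveI : Module.Flat A B := Module.Flat.trans A (Polynomial A) B
  have hmB : (maximalIdeal A).map (algebraMap A B) = maximalIdeal B := by
    rw [IsScalarTower.algebraMap_eq A (Polynomial A) B, ← Ideal.map_map]
    exact Localization.AtPrime.map_eq_maximalIdeal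
  haveI : IsLocalHom (algebraMap A B) := ((IsLocalRing.local_hom_TFAE (algebraMap A B)).out 0 2).2 hmB.le
  have hinf : Infinite (ResidueField B) := by
    refine Infinite.of_injective (fun i : ℕ => residue B (algebraMap (Polynomial A) B (Polynomial.X ^ i))) ?_
    intro i j hij
    by_contra hne
    have h1 : algebraMap (Polynomial A) B (Polynomial.X ^ i - Polynomial.X ^ j) ∈ maximalIdeal B := by
      rw [map_sub]
      exact Ideal.Quotient.eq.1 hij
    have h2 := Ideal.mem_map_C_iff.1 ((IsLocalization.AtPrime.to_map_mem_maximal_iff B P _).1 h1) i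
    rw [Polynomial.coeff_sub, Polynomial.coeff_X_pow_self, Polynomial.coeff_X_pow, if_neg hne, sub_zero] at h2
    exact (maximalIdeal.isMaximal A).ne_top ((Ideal.eq_top_iff_one _).2 h2)
  have hlenB : ∀ J : Ideal A, Module.length B (B ⧸ J.map (algebraMap A B)) = Module.length A (A ⧸ J) := by
    intro J
    rw [(Algebra.TensorProduct.quotIdealMapEquivTensorQuot B J).toLinearEquiv.length_eq,
      IsLocalRing.length_baseChange, hmB,
      show Module.length B (B ⧸ maximalIdeal B) = 1 from HSLib.length_residueField, mul_one]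
  have hdimB : ringKrullDim B = 2 := (Hensel.ringKrullDim_eq_of_flat_of_map_maximalIdeal_eq hmB).trans hdim
  have hinjB : Function.Injective (algebraMap A B) := by
    rw [IsScalarTower.algebraMap_eq A (Polynomial A) B]
    exact (IsLocalization.injective B P.primeCompl_le_nonZeroDivisors).comp Polynomial.C_injective
  set φ := algebraMap A B with hφ
  have hmap : ∀ e : A, Ideal.map φ (Ideal.span {e}) = Ideal.span {φ e} := fun e => by
    rw [Ideal.map_span, Set.image_singleton]
  have hB : RegPair (φ f) (φ g) := by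
    refine ⟨fun e => h.ne (hinjB (e.trans (map_zero φ).symm)), hmB ▸ Ideal.mem_map_of_mem φ h.mem₁,
      hmB ▸ Ideal.mem_map_of_mem φ h.mem₂, fun c hc => ?_⟩
    rw [← hmap] at hc ⊢
    refine Ideal.map_mono (fun d hd => ?_) (BrnchLib.mem_map_colon_of_flat (Ideal.span {f}) (fun _ : PUnit.{u + 1} => g) c
      fun _ => by rwa [mul_comm])
    have hdg : d • g ∈ Ideal.span {f} := Submodule.mem_colon.1 hd g ⟨PUnit.unit, rfl⟩
    exact h.next d (by rwa [mul_comm])
  have hrad : ∃ n, maximalIdeal A ^ n ≤ Ideal.span {f} ⊔ Ideal.span {g} := by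
    obtain ⟨n, hn⟩ := Ideal.exists_radical_pow_le_of_fg (Ideal.span {f} ⊔ Ideal.span {g}) (IsNoetherian.noetherian _)
    refine ⟨n, le_trans (Ideal.pow_right_mono ?_ n) hn⟩
    rw [Ideal.radical_eq_sInf]
    exact le_sInf fun Q hQ => (h.radical_eq hdim.le hQ.2 hQ.1).ge
  obtain ⟨n₀, hn₀⟩ := hrad
  set J := Ideal.span {f} ⊔ Ideal.span {g} with hJ
  have hJB : J.map φ = Ideal.span {φ f} ⊔ Ideal.span {φ g} := by rw [hJ, Ideal.map_sup, hmap, hmap]
  have hsat : sat (J.map φ) = (sat J).map φ := by
    refine le_antisymm (fun z hz => ?_) (Ideal.map_le_iff_le_comap.2 fun z hz => mem_sat.2 fun m hm => ?_)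
    · obtain ⟨s, hs⟩ := (IsNoetherian.noetherian (maximalIdeal A) : (maximalIdeal A).FG)
      refine Ideal.map_mono (fun d hd => mem_sat.2 fun m hm => ?_) (BrnchLib.mem_map_colon_of_flat J (fun i : s => (i : A)) z
        fun i => mem_sat.1 hz _ (hmB ▸ Ideal.mem_map_of_mem φ (hs ▸ Submodule.subset_span i.2)))
      rw [← hs] at hm
      induction hm using Submodule.span_induction with
      | mem x hx => exact Submodule.mem_colon.1 hd x ⟨⟨x, hx⟩, rfl⟩
      | zero => simp
      | add x y _ _ hx hy => rw [mul_add]; exact add_mem hx hy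
      | smul r x _ hx => rw [smul_eq_mul, mul_left_comm]; exact Ideal.mul_mem_left _ _ hx
    · rw [← hmB] at hm
      rw [Ideal.map] at hm
      induction hm using Submodule.span_induction with
      | mem x hx =>
        obtain ⟨t, ht, rfl⟩ := hx
        rw [← map_mul]
        exact Ideal.mem_map_of_mem φ (mem_sat.1 hz t ht)
      | zero => simp
      | add x y _ _ hx hy => rw [mul_add]; exact add_mem hx hy
      | smul r x _ hx => rw [smul_eq_mul, mul_left_comm]; exact Ideal.mul_mem_left _ _ hx
  have key := exists_pair_socle hinf hdimB hB hμ fun n => by rw [← hmB, ← Ideal.map_pow, hlenB]; exact hH n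
  have h1 := length_quot_eq J
  have h2 := length_quot_eq (J.map φ)
  rw [hsat, hlenB, hlenB, hJB] at h2
  obtain ⟨a, ha⟩ := ENat.ne_top_iff_exists.1 (length_quot_ne_top_of_pow_le (hn₀.trans (le_sat J)))
  rw [← ha] at h1 h2
  rw [← key]
  exact congrArg (· + 1) ((WithTop.add_right_cancel (WithTop.coe_ne_top) (h1.symm.trans h2)))

open Groth.Agent.RatSing in
/-- Hilbert-Samuel function from linear graded pieces. -/
theorem length_pow_of_gr [IsIntegrallyClosed A] {μ : ℕ} (h : ∀ r : ℕ, Module.length A (Gr A r) = ((r * μ + 1 : ℕ) : ℕ∞)) :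
    ∀ n : ℕ, 2 * Module.length A (A ⧸ maximalIdeal A ^ n) + ((μ * n : ℕ) : ℕ∞) = ((μ * n * n + 2 * n : ℕ) : ℕ∞)
  | 0 => by
    rw [pow_zero, Ideal.one_eq_top, Module.length_eq_zero]
    simp
  | n + 1 => by
    have ih := length_pow_of_gr h n
    obtain ⟨L, hL⟩ := ENat.ne_top_iff_exists.1 (length_pow_ne_top (A := A) n)
    rw [← hL] at ih
    rw [length_gr_add, h, ← hL]
    have ih' : 2 * L + μ * n = μ * n * n + 2 * n := by exact_mod_cast ih
    exact_mod_cast (show 2 * (n * μ + 1 + L) + μ * (n + 1) = μ * (n + 1) * (n + 1) + 2 * (n + 1) by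
      ring_nf at ih' ⊢; omega)

theorem length_cotangent : Module.length A (CotangentSpace A) = Module.length A (RatSing.Gr A 1) := by
  refine (Submodule.Quotient.equiv _ _ (LinearEquiv.ofEq (maximalIdeal A) (maximalIdeal A ^ 1) (pow_one _).symm) ?_).length_eq
  ext x
  rw [Submodule.mem_map_equiv, Submodule.mem_smul_top_iff]
  simp [pow_two]

/-- The dualizing module of a non-regular surface with linear Hilbert function. -/
theorem length_dualizing (hdim : ringKrullDim A = 2) [IsIntegrallyClosed A] (hnr : ¬ IsRegularLocalRing A)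
    {μ : ℕ} (hh : ∀ r : ℕ, Module.length A (RatSing.Gr A r) = ((r * μ + 1 : ℕ) : ℕ∞))
    (ω : Type u) [AddCommGroup ω] [Module A ω] (hω : Dual.IsDualizing A (Dual.inD A ω)) :
    Module.length A (ω ⧸ (maximalIdeal A • (⊤ : Submodule A ω))) + 2 = Module.length A (CotangentSpace A) := by
  obtain ⟨f, g, hf, hg, hp⟩ := RatCompl.exists_pair (R := A) (by rw [hdim]; exact (by decide : (1 : WithBot ℕ∞) < 2))
  have hf0 : f ≠ 0 := fun e => one_ne_zero (α := A) (hp.reg 1 (by rw [e, zero_mul]))
  have hpair : RegPair f g := ⟨hf0, hf, hg, fun c hc =>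
    Ideal.mem_span_singleton.2 (hp.next c (Ideal.mem_span_singleton.1 hc))⟩
  rw [length_cotangent, hh 1, one_mul, length_quot_smul_top hω hdim hpair]
  have hμ : 2 ≤ μ := by
    by_contra hlt
    refine hnr (IsRegularLocalRing.of_spanFinrank_maximalIdeal_le A ?_)
    rw [spanFinrank_maximalIdeal_eq_finrank_cotangentSpace, hdim]
    have h1 := length_cotangent (A := A)
    rw [hh 1, one_mul, Module.length_eq_of_surjective (S := A) (R := ResidueField A) (M := CotangentSpace A)
      Ideal.Quotient.mk_surjective, Module.length_eq_finrank] at h1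
    have h2 : Module.finrank (ResidueField A) (CotangentSpace A) = μ + 1 := by exact_mod_cast h1
    rw [h2]
    exact_mod_cast (show μ + 1 ≤ 2 by omega)
  have h := length_socle_of_hilbert hdim hpair hμ (length_pow_of_gr hh)
  rw [Nat.cast_succ, ← h, add_assoc, one_add_one_eq_two]

end Groth.Agent.RatType
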