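import Groth.Agent.RatType.Socle
import Groth.Agent.RatGor.Alg
import Groth.Agent.HSLib.Regular
import Mathlib.LinearAlgebra.Dimension.Free

/-!
# The number of generators of a dualizing module is the type
-/

set_option autoImplicit false
set_option linter.style.haveILetI false
set_option linter.unusedSectionVars false
set_option backward.isDefEq.respectTransparency false
set_option backward.isDefEq.respectTransparency.types false
set_option maxHeartbeats 800000

universe u

open CategoryTheory CategoryTheory.Limits IsLocalRing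
open CategoryTheory.Abelian (Ext)

attribute [local instance] HasDerivedCategory.standard

noncomputable section

namespace Groth.Agent.RatType

open Groth.Agent

section Sequence

variable {A : Type u} [CommRing A] {X₁ X₂ X₃ : Type u} [AddCommGroup X₁] [Module A X₁] [AddCommGroup X₂] [Module A X₂]
  [AddCommGroup X₃] [Module A X₃] {i : X₁ →ₗ[A] X₂} {p : X₂ →ₗ[A] X₃}

theorem exists_lift (hi : Function.Injective i) (hp : Function.Surjective p) (hex : Function.Exact i p)
    (P : Type u) [AddCommGroup P] [Module A P] [Subsingleton (Ext.{u} (ModuleCat.of A P) (ModuleCat.of A X₁) 1)]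
    (φ : P →ₗ[A] X₃) : ∃ ψ : P →ₗ[A] X₂, p ∘ₗ ψ = φ := by
  obtain ⟨w, hS⟩ := KFlatLib.exists_ses_of_exact hi hp hex
  obtain ⟨x, hx⟩ := Ext.covariant_sequence_exact₃ (ModuleCat.of A P) hS (Ext.mk₀ (ModuleCat.ofHom φ))
    (zero_add 1) (Subsingleton.elim (α := Ext.{u} (ModuleCat.of A P) (ModuleCat.of A X₁) 1) _ _)
  obtain ⟨ψ, rfl⟩ := (Ext.mk₀_bijective _ _).2 x
  rw [Ext.mk₀_comp_mk₀] at hx
  exact ⟨ψ.hom, congrArg ModuleCat.Hom.hom ((Ext.mk₀_bijective _ _).1 hx)⟩

theorem subsingleton_ext_quot (hi : Function.Injective i) (hp : Function.Surjective p) (hex : Function.Exact i p)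
    (P : Type u) [AddCommGroup P] [Module A P] {n n' : ℕ} (hn : n + 1 = n')
    [Subsingleton (Ext.{u} (ModuleCat.of A P) (ModuleCat.of A X₂) n)]
    [Subsingleton (Ext.{u} (ModuleCat.of A P) (ModuleCat.of A X₁) n')] :
    Subsingleton (Ext.{u} (ModuleCat.of A P) (ModuleCat.of A X₃) n) := by
  obtain ⟨w, hS⟩ := KFlatLib.exists_ses_of_exact hi hp hex
  refine subsingleton_of_forall_eq 0 fun z => ?_
  obtain ⟨x, rfl⟩ := Ext.covariant_sequence_exact₃ (ModuleCat.of A P) hS z hn
    (Subsingleton.elim (α := Ext.{u} (ModuleCat.of A P) (ModuleCat.of A X₁) n') _ _)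
  rw [Subsingleton.elim (α := Ext.{u} (ModuleCat.of A P) (ModuleCat.of A X₂) n) x 0, Ext.zero_comp]

theorem length_ext_quot_le (hi : Function.Injective i) (hp : Function.Surjective p) (hex : Function.Exact i p)
    (P : Type u) [AddCommGroup P] [Module A P] {n n' : ℕ} (hn : n + 1 = n')
    (h : ∀ x : Ext.{u} (ModuleCat.of A P) (ModuleCat.of A X₂) n,
      x.comp (Ext.mk₀ (ModuleCat.ofHom p)) (add_zero n) = 0) :
    Module.length A (Ext.{u} (ModuleCat.of A P) (ModuleCat.of A X₃) n) ≤
      Module.length A (Ext.{u} (ModuleCat.of A P) (ModuleCat.of A X₁) n') := by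
  obtain ⟨w, hS⟩ := KFlatLib.exists_ses_of_exact hi hp hex
  let δ : Ext.{u} (ModuleCat.of A P) (ModuleCat.of A X₃) n →ₗ[A] Ext.{u} (ModuleCat.of A P) (ModuleCat.of A X₁) n' :=
    { toFun := fun z => z.comp hS.extClass hn
      map_add' := fun a b => Ext.add_comp a b _ _
      map_smul' := fun r a => Ext.smul_comp a _ hn r }
  refine Module.length_le_of_injective δ ((injective_iff_map_eq_zero δ).2 fun z hz => ?_)
  obtain ⟨x, rfl⟩ := Ext.covariant_sequence_exact₃ (ModuleCat.of A P) hS z hn hz
  exact h x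

end Sequence

/-- Linear maps into a module and extensions in degree zero. -/
def homEquiv {A : Type u} [CommRing A] (P X : Type u) [AddCommGroup P] [Module A P] [AddCommGroup X] [Module A X] :
    Ext.{u} (ModuleCat.of A P) (ModuleCat.of A X) 0 ≃ₗ[A] (P →ₗ[A] X) :=
  (Ext.linearEquiv₀ (R := A)).trans ModuleCat.homLinearEquiv

variable {A : Type u} [CommRing A] [IsDomain A] [IsLocalRing A] [IsNoetherianRing A]
  {ω : Type u} [AddCommGroup ω] [Module A ω] (hω : Dual.IsDualizing A (Dual.inD A ω))

include hω in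
theorem end_bijective : Function.Bijective fun c : A => c • (LinearMap.id : ω →ₗ[A] ω) := by
  let F := DerivedCategory.singleFunctor (ModuleCat.{u} A) 0
  have key : ∀ c : A, F.map (ModuleCat.ofHom (c • (LinearMap.id : ω →ₗ[A] ω))) = c • 𝟙 (Dual.inD A ω) := fun c => by
    show F.map (c • 𝟙 (ModuleCat.of A ω)) = _
    rw [F.map_smul, F.map_id]
  constructor
  · intro a b hab
    refine hω.toEnd_bijective.1 ?_
    show a • 𝟙 _ = b • 𝟙 _
    rw [← key, ← key]
    exact congrArg (fun e => F.map (ModuleCat.ofHom e)) hab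
  · intro e
    obtain ⟨c, hc⟩ := hω.toEnd_bijective.2 (F.map (ModuleCat.ofHom e))
    exact ⟨c, congrArg ModuleCat.Hom.hom (F.map_injective ((key c).trans hc))⟩

include hω in
theorem ext_facts (hdim : ringKrullDim A = 2) :
    Subsingleton (Ext.{u} (ModuleCat.of A ω) (ModuleCat.of A ω) 1) ∧
    Subsingleton (Ext.{u} (ModuleCat.of A ω) (ModuleCat.of A ω) 2) ∧
    Module.length A (Ext.{u} (ModuleCat.of A (A ⧸ maximalIdeal A)) (ModuleCat.of A ω) 2) = 1 := by
  refine ⟨?_, ?_, ?_⟩
  · exact (Ext.homEquiv (X := ModuleCat.of A ω) (Y := ModuleCat.of A ω) (n := 1)).subsingleton_congr.2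
      (hω.ext_self_subsingleton _ (by omega))
  · exact (Ext.homEquiv (X := ModuleCat.of A ω) (Y := ModuleCat.of A ω) (n := 2)).subsingleton_congr.2
      (hω.ext_self_subsingleton _ (by omega))
  · haveI := KFlatLib.hasLTen A
    haveI := KFlatLib.hasRHom (A := A)
    obtain ⟨n, -, ⟨e⟩⟩ := KFlatLib.exists_unique_ext_point (maximalIdeal A) hω
    have hn2 : n = 2 := by
      by_contra hne
      obtain ⟨-, hn⟩ := GRDual.exists_normalized_two hdim ω hω
      let c := (shiftFunctorAdd' (Dual.D A) (2 : ℤ) (n - 2) n (by omega)).app (Dual.inD A ω)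
      haveI : Subsingleton (Dual.inD A (A ⧸ maximalIdeal A) ⟶ (Dual.inD A ω)⟦n⟧) :=
        @Equiv.subsingleton _ _ c.homToEquiv (hn (n - 2) (by omega))
      haveI : Subsingleton (A ⧸ maximalIdeal A) := e.symm.injective.subsingleton
      exact not_subsingleton (ResidueField A) ‹_›
    subst hn2
    rw [(Ext.homLinearEquiv (R := A) (X := ModuleCat.of A (A ⧸ maximalIdeal A)) (Y := ModuleCat.of A ω) (n := 2)).length_eq]
    exact e.length_eq.trans (HSLib.length_residueField (A := A))

include hω in
/-- The dualizing module needs as many generators as the socle of a quotient by a regular pair has length. -/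
theorem length_quot_smul_top (hdim : ringKrullDim A = 2) {f g : A} (h : RegPair f g) :
    Module.length A (ω ⧸ (maximalIdeal A • (⊤ : Submodule A ω))) =
      Module.length A (socle (Ideal.span {f} ⊔ Ideal.span {g})) := by
  classical
  obtain ⟨hfin, htf, -⟩ := RatGor.exists_embedding hω
  haveI := hfin
  obtain ⟨hE1, hE2, hk2⟩ := ext_facts hω hdim
  haveI := RatGor.subsingleton_ext_residue hω hdim
  haveI := hE1
  haveI := hE2
  set J := Ideal.span {f} ⊔ Ideal.span {g} with hJ
  let κ := A ⧸ maximalIdeal A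
  let μf : ω →ₗ[A] ω := f • LinearMap.id
  let N1 := ω ⧸ LinearMap.range μf
  let π1 : ω →ₗ[A] N1 := Submodule.mkQ _
  have hf : Function.Injective μf := (injective_iff_map_eq_zero μf).2 fun m hm => htf f m h.ne hm
  have hex1 : Function.Exact μf π1 := LinearMap.exact_map_mkQ_range μf
  have hπ1 : Function.Surjective π1 := Submodule.mkQ_surjective _
  have hN1k : ∀ z : N1, (∀ m ∈ maximalIdeal A, m • z = 0) → z = 0 := fun z hz => by
    let l : κ →ₗ[A] N1 := Submodule.liftQ (maximalIdeal A) (LinearMap.toSpanSingleton A N1 z) fun m hm => hz m hm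
    haveI : Subsingleton (Ext.{u} (ModuleCat.of A κ) (ModuleCat.of A ω) 0) := by
      refine (homEquiv κ ω).toEquiv.subsingleton_congr.2 (subsingleton_of_forall_eq 0 fun q => ?_)
      refine LinearMap.ext fun a => ?_
      obtain ⟨a, rfl⟩ := Submodule.mkQ_surjective _ a
      refine htf f _ h.ne ?_
      rw [← map_smul, ← map_smul]
      show q (Submodule.Quotient.mk (f * a)) = 0
      rw [(Submodule.Quotient.mk_eq_zero _).2 (Ideal.mul_mem_right _ _ h.mem₁), map_zero]
    haveI := subsingleton_ext_quot hf hπ1 hex1 κ (n := 0) (n' := 1) rfl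
    have hl : l = 0 := @Subsingleton.elim _ (homEquiv κ N1).symm.injective.subsingleton l 0
    have h1 : l (Submodule.Quotient.mk 1) = z := one_smul A z
    rw [← h1, hl, LinearMap.zero_apply]
  let μg : N1 →ₗ[A] N1 := g • LinearMap.id
  let N2 := N1 ⧸ LinearMap.range μg
  let π2 : N1 →ₗ[A] N2 := Submodule.mkQ _
  have hg : Function.Injective μg := by
    refine (injective_iff_map_eq_zero μg).2 fun z hz => smul_regular_of_avoid (g := g) (fun P hP hgP => ?_) hz
    have hfP : f ∈ P := IsAssociatedPrime.annihilator_le hP (Submodule.mem_annihilator.2 fun z _ => by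
      obtain ⟨m, rfl⟩ := hπ1 z
      exact (Submodule.Quotient.mk_eq_zero _).2 ⟨m, rfl⟩)
    exact maximalIdeal_notMem_associatedPrimes hN1k (h.radical_eq hdim.le hP.isPrime
      (sup_le ((Ideal.span_singleton_le_iff_mem _).2 hfP) ((Ideal.span_singleton_le_iff_mem _).2 hgP)) ▸ hP)
  have hex2 : Function.Exact μg π2 := LinearMap.exact_map_mkQ_range μg
  have hπ2 : Function.Surjective π2 := Submodule.mkQ_surjective _
  let π : ω →ₗ[A] N2 := π2 ∘ₗ π1
  have hπ : Function.Surjective π := hπ2.comp hπ1
  obtain ⟨hEi, hEs⟩ := end_bijective hω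
  have hlift1 : ∀ φ : ω →ₗ[A] N1, ∃ c : A, φ = c • π1 := fun φ => by
    obtain ⟨ψ, rfl⟩ := exists_lift hf hπ1 hex1 ω φ
    obtain ⟨c, rfl⟩ := hEs ψ
    exact ⟨c, LinearMap.ext fun m => map_smul π1 c m⟩
  have hlift : ∀ φ : ω →ₗ[A] N2, ∃ c : A, φ = c • π := fun φ => by
    haveI := subsingleton_ext_quot hf hπ1 hex1 ω (n := 1) (n' := 2) rfl
    obtain ⟨ψ, rfl⟩ := exists_lift hg hπ2 hex2 ω φ
    obtain ⟨c, rfl⟩ := hlift1 ψ
    exact ⟨c, LinearMap.ext fun m => map_smul π2 c (π1 m)⟩
  have hJk : ∀ a ∈ J, a • π = 0 := fun a ha => by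
    obtain ⟨b, hb, b', hb', rfl⟩ := Submodule.mem_sup.1 ha
    obtain ⟨c, rfl⟩ := Ideal.mem_span_singleton'.1 hb
    obtain ⟨c', rfl⟩ := Ideal.mem_span_singleton'.1 hb'
    refine LinearMap.ext fun m => ?_
    have e1 : f • π1 m = 0 := (Submodule.Quotient.mk_eq_zero _).2 ⟨m, rfl⟩
    have e2 : g • π m = 0 := (Submodule.Quotient.mk_eq_zero _).2 ⟨π1 m, rfl⟩
    show (c * f + c' * g) • π m = 0
    rw [add_smul, mul_smul, mul_smul, e2, smul_zero, add_zero]
    show c • f • π2 (π1 m) = 0
    rw [← map_smul π2, e1, map_zero, smul_zero]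
  have hann : ∀ a : A, a • π = 0 → a ∈ J := fun a ha => by
    choose q hq using fun m : ω => (Submodule.Quotient.mk_eq_zero (LinearMap.range μg) (x := a • π1 m)).1
      ((map_smul π2 a (π1 m)).trans (LinearMap.congr_fun ha m))
    obtain ⟨c, hc⟩ := hlift1
      { toFun := q
        map_add' := fun x y => hg (by rw [hq, map_add, map_add, hq, hq, smul_add])
        map_smul' := fun r x => hg (by rw [hq, map_smul, RingHom.id_apply, map_smul, hq, smul_comm]) }
    have h1 : ∀ m, (a - g * c) • π1 m = 0 := fun m => by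
      rw [sub_smul, mul_smul, sub_eq_zero, ← hq m]
      exact congrArg (g • ·) (LinearMap.congr_fun hc m)
    choose q' hq' using fun m : ω => (Submodule.Quotient.mk_eq_zero (LinearMap.range μf) (x := (a - g * c) • m)).1
      ((map_smul π1 _ m).trans (h1 m))
    obtain ⟨d, hd⟩ := hEs
      { toFun := q'
        map_add' := fun x y => hf (by rw [hq', map_add, hq', hq', smul_add])
        map_smul' := fun r x => hf (by rw [hq', RingHom.id_apply, map_smul, hq', smul_comm]) }
    have h2 : a - g * c = f * d := hEi (LinearMap.ext fun m => by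
      show (a - g * c) • m = (f * d) • m
      rw [mul_smul, ← hq' m]
      exact congrArg (f • ·) (LinearMap.congr_fun hd m).symm)
    rw [show a = d * f + c * g by linear_combination h2]
    exact add_mem (Ideal.mem_sup_left (Ideal.mem_span_singleton'.2 ⟨d, rfl⟩))
      (Ideal.mem_sup_right (Ideal.mem_span_singleton'.2 ⟨c, rfl⟩))
  have hH : Module.length A (κ →ₗ[A] N2) = 1 := by
    refine le_antisymm ?_ (Order.one_le_iff_pos.2 (Module.length_pos_iff.2 ?_))
    · rw [← (homEquiv κ N2).length_eq]
      refine (length_ext_quot_le hg hπ2 hex2 κ (n := 0) (n' := 1) rfl fun x => ?_).trans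
        ((length_ext_quot_le hf hπ1 hex1 κ (n := 1) (n' := 2) rfl fun x => ?_).trans hk2.le)
      · haveI : Subsingleton (κ →ₗ[A] N1) := subsingleton_of_forall_eq 0 fun q => LinearMap.ext fun a => by
          refine hN1k _ fun m hm => ?_
          obtain ⟨a, rfl⟩ := Submodule.mkQ_surjective _ a
          rw [← map_smul, ← map_smul]
          show q (Submodule.Quotient.mk (m * a)) = 0
          rw [(Submodule.Quotient.mk_eq_zero _).2 (Ideal.mul_mem_right _ _ hm), map_zero]
        rw [(homEquiv κ N1).injective (Subsingleton.elim (α := κ →ₗ[A] N1) (homEquiv κ N1 x) (homEquiv κ N1 0)),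
          Ext.zero_comp]
      · rw [Subsingleton.elim (α := Ext.{u} (ModuleCat.of A κ) (ModuleCat.of A ω) 1) x 0, Ext.zero_comp]
    · haveI : Nontrivial N2 := by
        by_contra hn
        haveI := not_nontrivial_iff_subsingleton.1 hn
        have h1 : (1 : A) ∈ J := hann 1 (LinearMap.ext fun m => Subsingleton.elim _ _)
        exact (maximalIdeal.isMaximal A).ne_top ((Ideal.eq_top_iff_one _).2
          (sup_le ((Ideal.span_singleton_le_iff_mem _).2 h.mem₁) ((Ideal.span_singleton_le_iff_mem _).2 h.mem₂) h1))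
      obtain ⟨P, hP⟩ := associatedPrimes.nonempty A N2
      have hle : J ≤ P := fun a ha => IsAssociatedPrime.annihilator_le hP (Submodule.mem_annihilator.2 fun z _ => by
        obtain ⟨m, rfl⟩ := hπ z
        exact LinearMap.congr_fun (hJk a ha) m)
      have hPm := h.radical_eq hdim.le hP.isPrime hle
      by_contra hnt
      haveI := not_nontrivial_iff_subsingleton.1 hnt
      refine maximalIdeal_notMem_associatedPrimes (M := N2) (fun z hz => ?_) (hPm ▸ hP)
      let l : κ →ₗ[A] N2 := Submodule.liftQ (maximalIdeal A) (LinearMap.toSpanSingleton A N2 z) fun m hm => hz m hm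
      have h1 : l (Submodule.Quotient.mk 1) = z := one_smul A z
      rw [← h1, Subsingleton.elim l 0, LinearMap.zero_apply]
  let V := ω ⧸ (maximalIdeal A • (⊤ : Submodule A ω))
  haveI : Module.Finite (A ⧸ maximalIdeal A) V := Module.Finite.of_restrictScalars_finite A _ _
  letI : Field (A ⧸ maximalIdeal A) := Ideal.Quotient.field _
  let n := Module.finrank (A ⧸ maximalIdeal A) V
  let ev : V ≃ₗ[A] (Fin n → κ) := (Module.finBasis (A ⧸ maximalIdeal A) V).equivFun.restrictScalars A
  have hV : Module.length A V = n := by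
    rw [ev.length_eq, Module.length_pi, show Module.length A κ = 1 from HSLib.length_residueField (A := A),
      mul_one, ENat.card_eq_coe_fintype_card, Fintype.card_fin]
  have hHom : Module.length A (V →ₗ[A] N2) = n := by
    rw [(ev.arrowCongr (LinearEquiv.refl A N2)).length_eq,
      ← (LinearMap.lsum A (fun _ : Fin n => κ) A).length_eq, Module.length_pi, hH, mul_one,
      ENat.card_eq_coe_fintype_card, Fintype.card_fin]
  refine hV.trans (hHom.symm.trans ?_)
  let Φ₀ : sat J →ₗ[A] (V →ₗ[A] N2) :=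
    { toFun := fun a => Submodule.liftQ _ ((a : A) • π) (Submodule.smul_le.2 fun m hm x _ => by
        show (a : A) • π (m • x) = 0
        rw [map_smul, smul_smul]
        exact LinearMap.congr_fun (hJk _ (mem_sat.1 a.2 m hm)) x)
      map_add' := fun a b => Submodule.linearMap_qext _ (LinearMap.ext fun x => add_smul (a : A) (b : A) (π x))
      map_smul' := fun r a => Submodule.linearMap_qext _ (LinearMap.ext fun x => mul_smul r (a : A) (π x)) }
  have hsurj : Function.Surjective Φ₀ := fun φ => by
    obtain ⟨a, ha⟩ := hlift (φ ∘ₗ Submodule.mkQ _)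
    refine ⟨⟨a, mem_sat.2 fun m hm => hann _ (LinearMap.ext fun x => ?_)⟩, Submodule.linearMap_qext _ ha.symm⟩
    show (a * m) • π x = 0
    have h1 : a • π (m • x) = φ (Submodule.Quotient.mk (m • x)) := (LinearMap.congr_fun ha (m • x)).symm
    rw [(Submodule.Quotient.mk_eq_zero _).2 (Submodule.smul_mem_smul hm Submodule.mem_top), map_zero, map_smul,
      smul_smul] at h1
    exact h1
  have hker : LinearMap.ker Φ₀ = (Submodule.comap (sat J).subtype J) := by
    ext a
    refine ⟨fun ha => hann _ (LinearMap.ext fun x => LinearMap.congr_fun ha (Submodule.Quotient.mk x)), fun ha => ?_⟩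
    exact Submodule.linearMap_qext _ (LinearMap.ext fun x => LinearMap.congr_fun (hJk _ ha) x)
  let q : sat J →ₗ[A] socle J := (Submodule.mkQ J).submoduleMap (sat J)
  have hqker : LinearMap.ker q = (Submodule.comap (sat J).subtype J) := by
    ext a
    exact ⟨fun ha => (Submodule.Quotient.mk_eq_zero J).1 (congrArg Subtype.val ha),
      fun ha => Subtype.ext ((Submodule.Quotient.mk_eq_zero J).2 ha)⟩
  exact ((Φ₀.quotKerEquivOfSurjective hsurj).symm.trans ((Submodule.quotEquivOfEq _ _ (hker.trans hqker.symm)).trans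
    (q.quotKerEquivOfSurjective ((Submodule.mkQ J).submoduleMap_surjective _)))).length_eq

end Groth.Agent.RatType
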