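import Mathlib.RingTheory.Length
import Mathlib.RingTheory.Ideal.Colon
import Mathlib.RingTheory.LocalRing.ResidueField.Basic
import Mathlib.RingTheory.Ideal.AssociatedPrime.Finiteness
import Mathlib.RingTheory.Ideal.KrullsHeightTheorem
import Mathlib.RingTheory.Ideal.AssociatedPrime.Localization

/-!
# Socles modulo regular pairs
-/

set_option autoImplicit false
set_option linter.unusedSectionVars false

universe u

open IsLocalRing

namespace Groth.Agent.RatType

variable {R : Type u} [CommRing R] [IsLocalRing R]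

/-- The preimage of the socle of the quotient by an ideal. -/
def sat (Q : Ideal R) : Ideal R := Q.colon (maximalIdeal R : Set R)

theorem mem_sat {Q : Ideal R} {z : R} : z ∈ sat Q ↔ ∀ m ∈ maximalIdeal R, z * m ∈ Q := Submodule.mem_colon

theorem le_sat (Q : Ideal R) : Q ≤ sat Q := fun _ hz => mem_sat.2 fun m _ => Ideal.mul_mem_right m Q hz

/-- The socle of the quotient by an ideal. -/
noncomputable def socle (Q : Ideal R) : Submodule R (R ⧸ Q) := Submodule.map (Submodule.mkQ Q) (sat Q)

theorem mk_mem_socle {Q : Ideal R} {z : R} : Submodule.mkQ Q z ∈ socle Q ↔ z ∈ sat Q := by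
  refine ⟨?_, fun h => Submodule.mem_map_of_mem h⟩
  rintro ⟨w, hw, he⟩
  have h : w - z ∈ Q := (Submodule.Quotient.eq Q).1 he
  simpa using sub_mem hw (le_sat Q h)

/-- The socle and the quotient by its preimage. -/
theorem length_quot_eq (Q : Ideal R) :
    Module.length R (R ⧸ Q) = Module.length R (socle Q) + Module.length R (R ⧸ sat Q) := by
  refine Module.length_eq_add_of_exact (socle Q).subtype (Submodule.factor (le_sat Q)) Subtype.val_injective
    (Submodule.factor_surjective _) ?_
  intro y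
  obtain ⟨z, rfl⟩ := Submodule.mkQ_surjective Q y
  show (Submodule.Quotient.mk z : R ⧸ sat Q) = 0 ↔ _
  rw [Submodule.Quotient.mk_eq_zero, ← mk_mem_socle]
  exact ⟨fun h => ⟨⟨_, h⟩, rfl⟩, fun ⟨⟨_, h⟩, he⟩ => he ▸ h⟩

theorem smul_socle (Q : Ideal R) (m : R) (hm : m ∈ maximalIdeal R) (s : socle Q) : m • s = 0 := by
  obtain ⟨_, z, hz, rfl⟩ := s
  refine Subtype.ext ?_
  show m • Submodule.mkQ Q z = 0
  rw [← map_smul, smul_eq_mul, mul_comm]
  exact (Submodule.Quotient.mk_eq_zero Q).2 (mem_sat.1 hz m hm)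

theorem length_socle_le_of_swap (J : Ideal R) {x y : R} (hym : y ∈ maximalIdeal R)
    (hx : ∀ c, x * c ∈ J → c ∈ J) (hy : ∀ c, y * c ∈ J → c ∈ J) :
    Module.length R (socle (J ⊔ Ideal.span {x})) ≤ Module.length R (socle (J ⊔ Ideal.span {y})) := by
  classical
  let P := J ⊔ Ideal.span {x}
  let P' := J ⊔ Ideal.span {y}
  let K := J ⊔ Ideal.span {x * y}
  let μy : (R ⧸ P) →ₗ[R] R ⧸ K := Submodule.liftQ P (Submodule.mkQ K ∘ₗ LinearMap.mulLeft R y) fun a ha => by
    obtain ⟨j, hj, b, hb, rfl⟩ := Submodule.mem_sup.1 ha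
    obtain ⟨c, rfl⟩ := Ideal.mem_span_singleton'.1 hb
    exact (Submodule.Quotient.mk_eq_zero K).2 (by
      rw [LinearMap.mulLeft_apply, mul_add]
      exact add_mem (Ideal.mem_sup_left (Ideal.mul_mem_left _ y hj))
        (Ideal.mem_sup_right (Ideal.mem_span_singleton'.2 ⟨c, by ring⟩)))
  let μx : (R ⧸ P') →ₗ[R] R ⧸ K := Submodule.liftQ P' (Submodule.mkQ K ∘ₗ LinearMap.mulLeft R x) fun a ha => by
    obtain ⟨j, hj, b, hb, rfl⟩ := Submodule.mem_sup.1 ha
    obtain ⟨c, rfl⟩ := Ideal.mem_span_singleton'.1 hb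
    exact (Submodule.Quotient.mk_eq_zero K).2 (by
      rw [LinearMap.mulLeft_apply, mul_add]
      exact add_mem (Ideal.mem_sup_left (Ideal.mul_mem_left _ x hj))
        (Ideal.mem_sup_right (Ideal.mem_span_singleton'.2 ⟨c, by ring⟩)))
  have hμy : Function.Injective μy := by
    rw [← LinearMap.ker_eq_bot, eq_bot_iff]
    intro a ha
    obtain ⟨z, rfl⟩ := Submodule.mkQ_surjective P a
    have hz : y * z ∈ K := (Submodule.Quotient.mk_eq_zero K).1 ha
    obtain ⟨j, hj, b, hb, he⟩ := Submodule.mem_sup.1 hz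
    obtain ⟨c, rfl⟩ := Ideal.mem_span_singleton'.1 hb
    refine (Submodule.Quotient.mk_eq_zero P).2 ?_
    have hzc : z - c * x ∈ J := hy _ (by
      rw [show y * (z - c * x) = j by linear_combination -he]
      exact hj)
    simpa using add_mem (Ideal.mem_sup_left hzc)
      (Ideal.mem_sup_right (Ideal.mem_span_singleton'.2 ⟨c, rfl⟩) : c * x ∈ P)
  have hle : Submodule.map μy (socle P) ≤ Submodule.map μx (socle P') := by
    rintro _ ⟨_, ⟨z, hz, rfl⟩, rfl⟩
    have hzy : z * y ∈ P := mem_sat.1 hz y hym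
    obtain ⟨j, hj, b, hb, he⟩ := Submodule.mem_sup.1 hzy
    obtain ⟨w, rfl⟩ := Ideal.mem_span_singleton'.1 hb
    refine ⟨Submodule.mkQ P' w, mk_mem_socle.2 (mem_sat.2 fun m hm => ?_), ?_⟩
    · obtain ⟨j', hj', b', hb', he'⟩ := Submodule.mem_sup.1 (mem_sat.1 hz m hm)
      obtain ⟨t, rfl⟩ := Ideal.mem_span_singleton'.1 hb'
      have h1 : w * m - t * y ∈ J := hx _ (by
        rw [show x * (w * m - t * y) = j' * y - j * m by linear_combination m * he - y * he']
        exact sub_mem (Ideal.mul_mem_right _ _ hj') (Ideal.mul_mem_right _ _ hj))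
      simpa using add_mem (Ideal.mem_sup_left h1)
        (Ideal.mem_sup_right (Ideal.mem_span_singleton'.2 ⟨t, rfl⟩) : t * y ∈ P')
    · show Submodule.mkQ K (x * w) = Submodule.mkQ K (y * z)
      refine (Submodule.Quotient.eq K).2 (Ideal.mem_sup_left ?_)
      rw [show x * w - y * z = -j by linear_combination he]
      exact neg_mem hj
  calc Module.length R (socle P) = Module.length R (Submodule.map μy (socle P)) :=
        (Submodule.equivMapOfInjective μy hμy _).length_eq
    _ ≤ Module.length R (Submodule.map μx (socle P')) :=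
        Module.length_le_of_injective (Submodule.inclusion hle) (Submodule.inclusion_injective hle)
    _ ≤ Module.length R (socle P') :=
        Module.length_le_of_surjective (μx.submoduleMap (socle P')) (μx.submoduleMap_surjective _)

/-- Exchanging one element of a regular sequence does not change the socle. -/
theorem length_socle_swap (J : Ideal R) {x y : R} (hxm : x ∈ maximalIdeal R) (hym : y ∈ maximalIdeal R)
    (hx : ∀ c, x * c ∈ J → c ∈ J) (hy : ∀ c, y * c ∈ J → c ∈ J) :
    Module.length R (socle (J ⊔ Ideal.span {x})) = Module.length R (socle (J ⊔ Ideal.span {y})) :=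
  le_antisymm (length_socle_le_of_swap J hym hx hy) (length_socle_le_of_swap J hxm hy hx)

/-- A regular pair. -/
structure RegPair (x y : R) : Prop where
  ne : x ≠ 0
  mem₁ : x ∈ maximalIdeal R
  mem₂ : y ∈ maximalIdeal R
  next : ∀ c, y * c ∈ Ideal.span {x} → c ∈ Ideal.span {x}

variable [IsDomain R]

theorem RegPair.symm {x y : R} (h : RegPair x y) : RegPair y x := by
  refine ⟨fun hy => ?_, h.mem₂, h.mem₁, fun c hc => ?_⟩
  · have h1 : (1 : R) ∈ Ideal.span {x} := h.next 1 (by rw [hy, zero_mul]; exact zero_mem _)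
    exact (mem_maximalIdeal x).1 h.mem₁ (Ideal.span_singleton_eq_top.1 ((Ideal.eq_top_iff_one _).2 h1))
  · obtain ⟨w, hw⟩ := Ideal.mem_span_singleton'.1 hc
    obtain ⟨v, rfl⟩ := Ideal.mem_span_singleton'.1 (h.next w (Ideal.mem_span_singleton'.2 ⟨c, by linear_combination -hw⟩))
    refine Ideal.mem_span_singleton'.2 ⟨v, mul_left_cancel₀ h.ne ?_⟩
    linear_combination hw

/-- With one regular pair, no quotient by a nonzero element has the maximal ideal as associated prime. -/
theorem RegPair.mem_of_forall {a b : R} (h : RegPair a b) {f : R} (hf : f ≠ 0) {z : R}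
    (hz : ∀ m ∈ maximalIdeal R, m * z ∈ Ideal.span {f}) : z ∈ Ideal.span {f} := by
  obtain ⟨w, hw⟩ := Ideal.mem_span_singleton'.1 (hz a h.mem₁)
  obtain ⟨w', hw'⟩ := Ideal.mem_span_singleton'.1 (hz b h.mem₂)
  have h1 : b * w ∈ Ideal.span {a} := Ideal.mem_span_singleton'.2 ⟨w', mul_left_cancel₀ hf (by
    linear_combination a * hw' - b * hw)⟩
  obtain ⟨v, rfl⟩ := Ideal.mem_span_singleton'.1 (h.next w h1)
  exact Ideal.mem_span_singleton'.2 ⟨v, mul_left_cancel₀ h.ne (by linear_combination hw)⟩

variable [IsNoetherianRing R]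

/-- An element avoiding the associated primes of finitely many modules without the maximal ideal among them. -/
theorem exists_avoid (s : Finset (Ideal R)) (hp : ∀ p ∈ s, p.IsPrime) (hs : ∀ p ∈ s, p ≠ maximalIdeal R) :
    ∃ g ∈ maximalIdeal R, ∀ p ∈ s, g ∉ p := by
  classical
  have hnot : ¬ (maximalIdeal R : Set R) ⊆ ⋃ p ∈ (s : Set (Ideal R)), (p : Set R) := fun hsub => by
    obtain ⟨p, hp', hle⟩ := (Ideal.subset_union_prime (f := fun p : Ideal R => p) ⊥ ⊥
      (fun p hp' _ _ => hp p hp')).1 hsub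
    exact hs p hp' (le_antisymm (le_maximalIdeal (hp p hp').ne_top) hle)
  obtain ⟨g, hg, hgn⟩ := Set.not_subset.1 hnot
  exact ⟨g, hg, fun p hp' hgp => hgn (Set.mem_biUnion (x := p) hp' hgp)⟩

theorem maximalIdeal_notMem_associatedPrimes {M : Type*} [AddCommGroup M] [Module R M]
    (h : ∀ z : M, (∀ m ∈ maximalIdeal R, m • z = 0) → z = 0) : maximalIdeal R ∉ associatedPrimes R M := fun hm => by
  obtain ⟨-, z, hz⟩ := (isAssociatedPrime_iff).1 hm
  refine (maximalIdeal.isMaximal R).ne_top (eq_top_iff.2 fun r _ => ?_)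
  have h0 : z = 0 := h z fun m hm' => by
    rw [hz] at hm'
    simpa [Submodule.mem_colon_singleton] using hm'
  rw [hz, h0]
  simp [Submodule.mem_colon_singleton]

theorem smul_regular_of_avoid {M : Type*} [AddCommGroup M] [Module R M] {g : R}
    (hg : ∀ p ∈ associatedPrimes R M, g ∉ p) {z : M} (hz : g • z = 0) : z = 0 := by
  by_contra h0
  obtain ⟨p, hp, hle⟩ := exists_le_isAssociatedPrime_of_isNoetherianRing R z h0
  exact hg p hp (hle (by simpa [Submodule.mem_colon_singleton] using hz))

theorem next_of_avoid {f g : R} (hg : ∀ p ∈ associatedPrimes R (R ⧸ Ideal.span {f}), g ∉ p) {c : R}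
    (hc : g * c ∈ Ideal.span {f}) : c ∈ Ideal.span {f} :=
  (Submodule.Quotient.mk_eq_zero _).1
    (smul_regular_of_avoid hg (z := Submodule.Quotient.mk c) ((Submodule.Quotient.mk_eq_zero _).2 hc))

theorem RegPair.not_mem {a b : R} (h : RegPair a b) {f : R} (hf : f ≠ 0) :
    maximalIdeal R ∉ associatedPrimes R (R ⧸ Ideal.span {f}) := by
  refine maximalIdeal_notMem_associatedPrimes fun z hz => ?_
  obtain ⟨z, rfl⟩ := Submodule.mkQ_surjective _ z
  exact (Submodule.Quotient.mk_eq_zero _).2 (h.mem_of_forall hf fun m hm =>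
    (Submodule.Quotient.mk_eq_zero (Ideal.span {f})).1 (hz m hm))

/-- The socle does not depend on the regular pair. -/
theorem length_socle_eq {f g x y : R} (h₁ : RegPair f g) (h₂ : RegPair x y) :
    Module.length R (socle (Ideal.span {f} ⊔ Ideal.span {g})) =
      Module.length R (socle (Ideal.span {x} ⊔ Ideal.span {y})) := by
  classical
  let s := (associatedPrimes.finite R (R ⧸ Ideal.span {f})).toFinset ∪
    (associatedPrimes.finite R (R ⧸ Ideal.span {x})).toFinset ∪ {⊥}
  obtain ⟨h, hh, hs⟩ := exists_avoid s (fun p hp => by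
      simp only [s, Finset.mem_union, Set.Finite.mem_toFinset, Finset.mem_singleton] at hp
      rcases hp with (hp | hp) | rfl
      exacts [hp.isPrime, hp.isPrime, Ideal.isPrime_bot])
    (fun p hp => by
      simp only [s, Finset.mem_union, Set.Finite.mem_toFinset, Finset.mem_singleton] at hp
      rcases hp with (hp | hp) | rfl
      · exact fun e => h₁.not_mem h₁.ne (e ▸ hp)
      · exact fun e => h₁.not_mem h₂.ne (e ▸ hp)
      · exact fun e => h₁.ne (by simpa [← e] using h₁.mem₁))
  have pf : RegPair f h := ⟨h₁.ne, h₁.mem₁, hh, fun c => next_of_avoid fun p hp => hs p (by simp [s, hp])⟩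
  have px : RegPair x h := ⟨h₂.ne, h₂.mem₁, hh, fun c => next_of_avoid fun p hp => hs p (by simp [s, hp])⟩
  calc Module.length R (socle (Ideal.span {f} ⊔ Ideal.span {g}))
        = Module.length R (socle (Ideal.span {f} ⊔ Ideal.span {h})) :=
          length_socle_swap _ h₁.mem₂ hh h₁.next pf.next
    _ = Module.length R (socle (Ideal.span {h} ⊔ Ideal.span {x})) := by
          rw [sup_comm]
          exact length_socle_swap _ h₁.mem₁ h₂.mem₁ pf.symm.next px.symm.next
    _ = Module.length R (socle (Ideal.span {x} ⊔ Ideal.span {y})) := by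
          rw [sup_comm]
          exact length_socle_swap _ hh h₂.mem₂ px.next h₂.next

theorem RegPair.radical_eq (hdim : ringKrullDim R ≤ 2) {f g : R} (h : RegPair f g)
    {P : Ideal R} (hP : P.IsPrime) (hle : Ideal.span {f} ⊔ Ideal.span {g} ≤ P) : P = maximalIdeal R := by
  obtain ⟨Q, hQ, hQP⟩ := Ideal.exists_minimalPrimes_le (J := P) (le_sup_left.trans hle)
  have := hQ.1.1
  have hQass : Q ∈ associatedPrimes R (R ⧸ Ideal.span {f}) :=
    Module.associatedPrimes.minimalPrimes_annihilator_subset_associatedPrimes R (R ⧸ Ideal.span {f})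
      (by rw [Ideal.annihilator_quotient]; exact hQ)
  have hgQ : g ∉ Q := fun hgQ => by
    obtain ⟨-, z, hz⟩ := (isAssociatedPrime_iff).1 hQass
    obtain ⟨z, rfl⟩ := Submodule.mkQ_surjective _ z
    refine hQ.1.1.ne_top (eq_top_iff.2 fun r _ => ?_)
    have hgz : g * z ∈ Ideal.span {f} := by
      rw [hz] at hgQ
      rw [Submodule.mem_colon_singleton, Submodule.mem_bot] at hgQ
      exact (Submodule.Quotient.mk_eq_zero _).1 hgQ
    rw [hz, show Submodule.mkQ (Ideal.span {f}) z = 0 from (Submodule.Quotient.mk_eq_zero _).2 (h.next z hgz)]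
    simp [Submodule.mem_colon_singleton]
  have hlt : Q < P := lt_of_le_of_ne hQP fun e => hgQ (e ▸ hle (Ideal.mem_sup_right (Ideal.mem_span_singleton_self g)))
  have hbot : ⊥ < Q := bot_lt_iff_ne_bot.2 fun e => h.ne (by
    simpa [e] using hQ.1.2 (Ideal.mem_span_singleton_self f))
  by_contra hne
  have hPm : P < maximalIdeal R := lt_of_le_of_ne (le_maximalIdeal hP.ne_top) hne
  have := hP
  have h1 := Ideal.height_strict_mono_of_isPrime hbot
  have h2 := Ideal.height_strict_mono_of_isPrime hlt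
  have h3 := Ideal.height_strict_mono_of_isPrime hPm
  have h4 : ((maximalIdeal R).height : WithBot ℕ∞) ≤ 2 :=
    (IsLocalRing.maximalIdeal_height_eq_ringKrullDim (R := R)).le.trans hdim
  have h5 : (maximalIdeal R).height ≤ 2 := WithBot.coe_le_coe.1 h4
  have e1 := Order.add_one_le_of_lt (zero_le.trans_lt h1)
  have e2 := Order.add_one_le_of_lt (lt_of_le_of_lt e1 h2)
  have e3 := Order.add_one_le_of_lt (lt_of_le_of_lt e2 h3)
  exact absurd (e3.trans h5) (by decide)

end Groth.Agent.RatType
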